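import Cfsg.Agent.H749.CC.Glue
import Cfsg.Agent.H365.CC.QSp

/-!
# S4884, row psp (helper749; the `q`-elements are helper365's `qelt_psp`)
-/

set_option autoImplicit false

namespace Cfsg.Agent.H749.CC

open Cfsg Cfsg.Agent.H706.PB

/-- **row psp of S4884** -/
theorem rowR_psp {q : ℕ} [Fact q.Prime] (hq2 : q ≠ 2) :
    RowForR q (fun X _ => ∃ (F : Type) (_ : Field F) (_ : Fintype F) (m : ℕ), (q : F) ≠ 0 ∧ (2 : F) ≠ 0 ∧ 2 ≤ m ∧
      Nonempty (X ≃* PSp m F)) :=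
  rowR_psp_of hq2 fun _ _ _ _ hq _ hm hd => H365.CC.qelt_psp hm hq hd

end Cfsg.Agent.H749.CC
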